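import Cfsg.Agent.H19.Odd.HeCnt

/-!
# The scripts for centralizers in the Held group in pieces (helper793)
-/

set_option autoImplicit false

namespace Cfsg.Agent.H793.MS.HeRun

open Cfsg.Spor Cfsg.Spor.He Cfsg.Agent.CpAutHe.Cnt Cfsg.Agent.H19.Odd.HeCnt

/-- the check of some steps -/
def okk (X : List Gen) : List Stp → List ℕ → Bool
  | [], _ => true
  | s :: l, F => and (stpOk X F s) (okk X l (nx X F s.p))

/-- the fixed points after some steps -/
def fl (X : List Gen) : List Stp → List ℕ → List ℕ
  | [], F => F
  | s :: l, F => fl X l (nx X F s.p)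

theorem run_append {X : List Gen} : ∀ (l1 l2 : List Stp) (F : List ℕ), okk X l1 F = true →
    run X l2 (fl X l1 F) = true → run X (l1 ++ l2) F = true
  | [], _, _, _, h2 => h2
  | s :: l1, l2, F, h1, h2 => by
    have h1' : and (stpOk X F s) (okk X l1 (nx X F s.p)) = true := h1
    rw [Bool.and_eq_true] at h1'
    show and (stpOk X F s) (run X (l1 ++ l2) (nx X F s.p)) = true
    rw [Bool.and_eq_true]
    exact ⟨h1'.1, run_append l1 l2 _ h1'.2 h2⟩

theorem okk_append {X : List Gen} : ∀ (l1 l2 : List Stp) (F : List ℕ), okk X l1 F = true →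
    okk X l2 (fl X l1 F) = true → okk X (l1 ++ l2) F = true
  | [], _, _, _, h2 => h2
  | s :: l1, l2, F, h1, h2 => by
    have h1' : and (stpOk X F s) (okk X l1 (nx X F s.p)) = true := h1
    rw [Bool.and_eq_true] at h1'
    show and (stpOk X F s) (okk X (l1 ++ l2) (nx X F s.p)) = true
    rw [Bool.and_eq_true]
    exact ⟨h1'.1, okk_append l1 l2 _ h1'.2 h2⟩

/-- the script in two pieces -/
theorem run_cut {X : List Gen} {l : List Stp} {F : List ℕ} (n : ℕ) (h1 : okk X (l.take n) F = true)
    (h2 : run X (l.drop n) (fl X (l.take n) F) = true) : run X l F = true := by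
  have h := run_append _ _ F h1 h2
  rwa [List.take_append_drop] at h

/-- some steps in two pieces -/
theorem okk_cut {X : List Gen} {l : List Stp} {F : List ℕ} (n : ℕ) (h1 : okk X (l.take n) F = true)
    (h2 : okk X (l.drop n) (fl X (l.take n) F) = true) : okk X l F = true := by
  have h := okk_append _ _ F h1 h2
  rwa [List.take_append_drop] at h

end Cfsg.Agent.H793.MS.HeRun
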